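import Groth.Agent.QGorBCLib.Depth
import Groth.Agent.AlgSpLib.FibStalkBC
import Groth.Agent.DepthOpenLib.Flat
import Groth.Agent.ConsLib.ModLoci
import Groth.Agent.FlatDimLib.Main
import Groth.Agent.LocSuppLib.DepthTwo
import Groth.Agent.QGorSecLib.HomSh
import Groth.Prelude.Def_CInt

/-!
# Extension across a closed set of fibrewise depth two, after base change
-/

set_option autoImplicit false
set_option linter.style.haveILetI false
set_option backward.isDefEq.respectTransparency false
set_option backward.isDefEq.respectTransparency.types false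
set_option maxHeartbeats 1000000
set_option synthInstance.maxHeartbeats 200000

noncomputable section

universe u

open CategoryTheory CategoryTheory.Limits AlgebraicGeometry
open Groth.Agent

namespace QGorBCLib

/-- Depth does not drop under a flat pullback. -/
theorem depth_le_depth_pullback {X' X : Scheme.{u}} [IsLocallyNoetherian X] [IsLocallyNoetherian X'] (a : X' ⟶ X)
    [Flat a] (N : X.Modules) (hN : Coh.IsCoh N) (w : X') :
    LocCoh.depth (X.presheaf.stalk (a w)) (N.presheaf.stalk (a w)) ≤
      LocCoh.depth (X'.presheaf.stalk w) (((Scheme.Modules.pullback a).obj N).presheaf.stalk w) := by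
  letI : Algebra (X.presheaf.stalk (a w)) (X'.presheaf.stalk w) := (a.stalkMap w).hom.toAlgebra
  haveI : Module.Flat (X.presheaf.stalk (a w)) (X'.presheaf.stalk w) := Flat.stalkMap a w
  haveI : IsLocalHom (algebraMap (X.presheaf.stalk (a w)) (X'.presheaf.stalk w)) :=
    inferInstanceAs (IsLocalHom (a.stalkMap w).hom)
  haveI : Module.Finite (X.presheaf.stalk (a w)) (N.presheaf.stalk (a w)) := ZClosLib.finite_stalk hN (a w)
  let e : TensorProduct (X.presheaf.stalk (a w)) (X'.presheaf.stalk w) (N.presheaf.stalk (a w))
      ≃ₗ[X'.presheaf.stalk w] ((Scheme.Modules.pullback a).obj N).presheaf.stalk w :=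
    ((KFlatLib.stalkPullIso a w).symm.app N).toLinearEquiv
  rw [← CommAlgDim.depth_congr e]
  exact DepthOpenLib.depth_le_depth_tensor _

/-- Isomorphic modules have the same depth at every point. -/
theorem depth_congr_iso {X : Scheme.{u}} {M N : X.Modules} (e : M ≅ N) (w : X) :
    LocCoh.depth (X.presheaf.stalk w) (M.presheaf.stalk w) =
      LocCoh.depth (X.presheaf.stalk w) (N.presheaf.stalk w) :=
  CommAlgDim.depth_congr ((DerSch.stalkFunctor X w).mapIso e).toLinearEquiv

variable {X S X' S' : Scheme.{u}} {f : X ⟶ S} [LocallyOfFiniteType f] {g : S' ⟶ S} {g' : X' ⟶ X} {f' : X' ⟶ S'}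

/-- The flat map between the fibres of a base change. -/
theorem exists_fibre_map (hc : IsPullback g' f' f g) (t' : S') :
    ∃ a : f'.fiber t' ⟶ f.fiber (g t'), Flat a ∧ a ≫ f.fiberι (g t') = f'.fiberι t' ≫ g' := by
  have h := isPullback_fiberToSpecResidueField_of_isPullback hc t'
  let a := pullback.lift (f'.fiberι t' ≫ g') (f'.fiberToSpecResidueField t' ≫
      Spec.map (g.residueFieldMap t')) (by
    rw [Category.assoc, Category.assoc, hc.w, Scheme.Hom.SpecMap_residueFieldMap_fromSpecResidueField]
    exact pullback.condition_assoc _) (f := f) (g := S.fromSpecResidueField (g t'))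
  replace h : IsPullback a (f'.fiberToSpecResidueField t') (f.fiberToSpecResidueField (g t'))
      (Spec.map (g.residueFieldMap t')) := h
  haveI : Flat (Spec.map (g.residueFieldMap t')) := by
    rw [HasRingHomProperty.Spec_iff (P := @Flat)]
    letI := (g.residueFieldMap t').hom.toAlgebra
    exact RingHom.flat_algebraMap_iff.2 inferInstance
  exact ⟨a, MorphismProperty.of_isPullback h.flip ‹Flat (Spec.map _)›, pullback.lift_fst _ _ _⟩

theorem fiberDepth_le_baseChange (hc : IsPullback g' f' f g) {M : X.Modules} (hM : Coh.IsCoh M) (x' : X') :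
    CInt.fiberDepth f M (g' x') ≤ CInt.fiberDepth f' ((Scheme.Modules.pullback g').obj M) x' := by
  haveI : LocallyOfFiniteType f' := MorphismProperty.of_isPullback hc ‹_›
  have key : ∀ (s : S) (v : f.fiber s) (z : X), f.fiberι s v = z →
      LocCoh.depth ((f.fiber s).presheaf.stalk v)
        (((Scheme.Modules.pullback (f.fiberι s)).obj M).presheaf.stalk v) = CInt.fiberDepth f M z := by
    rintro s v z rfl
    have hs : f (f.fiberι s v) = s := (f.range_fiberι s).le ⟨v, rfl⟩
    generalize hz : f.fiberι s v = z at hs ⊢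
    subst hs
    obtain rfl : f.asFiber z = v :=
      (f.fiberι _).isEmbedding.injective ((f.fiberι_asFiber z).trans hz.symm)
    rfl
  let t' := f' x'
  obtain ⟨a, hflat, ha⟩ := exists_fibre_map hc t'
  haveI := hflat
  haveI : IsLocallyNoetherian (f.fiber (g t')) :=
    haveI := UOpenLib.lft_fiberToSpec f (g t')
    LocallyOfFiniteType.isLocallyNoetherian (f.fiberToSpecResidueField (g t'))
  haveI : IsLocallyNoetherian (f'.fiber t') :=
    haveI := UOpenLib.lft_fiberToSpec f' t'
    LocallyOfFiniteType.isLocallyNoetherian (f'.fiberToSpecResidueField t')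
  let ι := f.fiberι (g t')
  let ι' := f'.fiberι t'
  have hw : ι (a (f'.asFiber x')) = g' x' := by
    rw [← Scheme.Hom.comp_apply, ha, Scheme.Hom.comp_apply, f'.fiberι_asFiber]
  let e : (Scheme.Modules.pullback ι').obj ((Scheme.Modules.pullback g').obj M) ≅
      (Scheme.Modules.pullback a).obj ((Scheme.Modules.pullback ι).obj M) :=
    (Scheme.Modules.pullbackComp ι' g').app M ≪≫ (Scheme.Modules.pullbackCongr ha.symm).app M ≪≫
      ((Scheme.Modules.pullbackComp a ι).app M).symm
  rw [← key _ _ _ hw]
  show _ ≤ LocCoh.depth _ (((Scheme.Modules.pullback ι').obj ((Scheme.Modules.pullback g').obj M)).presheaf.stalk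
    (f'.asFiber x'))
  rw [depth_congr_iso e]
  exact depth_le_depth_pullback a _ (ConsLib.isCoh_pullback ι hM) _

/-- After base change a module extends across the preimage of a closed set along which it is flat with
fibres of depth two. -/
theorem extends_pullback [IsLocallyNoetherian X'] [IsLocallyNoetherian S'] (hc : IsPullback g' f' f g)
    {M : X.Modules} (hM : Coh.IsCoh M) (U : X.Opens) (hflat : ∀ y : X, y ∉ U → FlatMod.IsFlatOverAt f M y)
    (hdepth : ∀ y : X, y ∉ U → (2 : ℕ∞) ≤ CInt.fiberDepth f M y) :
    QGorSecLib.Extends (g' ⁻¹ᵁ U) ((Scheme.Modules.pullback g').obj M) := fun V => by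
  haveI := hM.1
  refine (LocSuppLib.depth_two_iff_bijective (g' ⁻¹ᵁ U) (ConsLib.isCoh_pullback g' hM)).1 (fun x hx => ?_) V
  exact two_le_depth_stalk f' _ (ConsLib.isCoh_pullback g' hM) x
    (FlatDimLib.isFlatOverAt_baseChange hc M x (hflat _ hx))
    ((hdepth _ hx).trans (fiberDepth_le_baseChange hc hM x))

end QGorBCLib
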