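import Groth.Agent.DepthTwoLib.FibreStalk
import Groth.Agent.SkOpenLib.Local
import Groth.Agent.DepthLib.SuppDim
import Groth.Agent.DepthLib.FibDepthScheme
import Groth.Agent.S9501
import Groth.Agent.ZClosLib.Depth
import Groth.Agent.QCohLib.Coherent
import Groth.Prelude.Def_FlatMod2

/-!
# Depth two from the fibre, for a module flat over the base
-/

set_option autoImplicit false
set_option linter.style.haveILetI false
set_option backward.isDefEq.respectTransparency false
set_option backward.isDefEq.respectTransparency.types false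
set_option maxHeartbeats 1000000
set_option synthInstance.maxHeartbeats 200000

universe u

open CategoryTheory AlgebraicGeometry IsLocalRing
open scoped TensorProduct
open Groth.Agent

namespace QGorBCLib

/-- Local algebra: depth two on the fibre lifts. -/
theorem two_le_depth_of_fibre (A B : Type u) [CommRing A] [CommRing B] [Algebra A B] [IsLocalRing A]
    [IsLocalRing B] [IsNoetherianRing A] [IsNoetherianRing B] [IsLocalHom (algebraMap A B)]
    (M : Type u) [AddCommGroup M] [Module B M] [Module A M] [IsScalarTower A B M] [Module.Finite B M]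
    [Module.Flat A M] (S : Type u) [CommRing S] [IsLocalRing S] [Algebra B S]
    (hs : Function.Surjective (algebraMap B S))
    (hk : RingHom.ker (algebraMap B S) = (maximalIdeal A).map (algebraMap A B))
    (h : (2 : ℕ∞) ≤ LocCoh.depth S (S ⊗[B] M)) : (2 : ℕ∞) ≤ LocCoh.depth B M := by
  haveI : Module.Finite B S := Module.Finite.of_surjective (Algebra.linearMap B S) hs
  haveI : Module.Finite B (S ⊗[B] M) := Module.Finite.trans S _
  rw [← SkOpenLib.depth_of_surjective hs (S ⊗[B] M)] at h
  obtain ⟨e₁⟩ := DepthTwoLib.tensor_residue_equiv (B := B) M (maximalIdeal A)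
  let I := RingHom.ker (algebraMap B S)
  let eS : (B ⧸ I) ≃ₗ[B] S := (Ideal.quotientKerAlgEquivOfSurjective (f := Algebra.ofId B S) hs).toLinearEquiv
  let e : S ⊗[B] M ≃ₗ[B] M ⊗[A] ResidueField A :=
    (TensorProduct.congr eS.symm (LinearEquiv.refl B M)).trans
      ((TensorProduct.quotTensorEquivQuotSMul M I).trans
        ((Submodule.quotEquivOfEq _ _ (by rw [show I = _ from hk])).trans e₁.symm))
  haveI : Module.Finite B (M ⊗[A] ResidueField A) := Module.Finite.equiv e
  rw [CommAlgDim.depth_congr e] at h
  exact DepthTwoLib.two_le_iff.2 (DepthTwoLib.d2_of_fibre (DepthTwoLib.two_le_iff.1 h))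

/-- A coherent module flat over the base with fibre of depth two at a point has depth two there. -/
theorem two_le_depth_stalk {X S : Scheme.{u}} [IsLocallyNoetherian X] [IsLocallyNoetherian S] (f : X ⟶ S)
    (M : X.Modules) (hM : Coh.IsCoh M) (y : X) (hflat : FlatMod.IsFlatOverAt f M y)
    (h : (2 : ℕ∞) ≤ LocCoh.depth ((f.fiber (f y)).presheaf.stalk (f.asFiber y))
      (((Scheme.Modules.pullback (f.fiberι (f y))).obj M).presheaf.stalk (f.asFiber y))) :
    (2 : ℕ∞) ≤ LocCoh.depth (X.presheaf.stalk y) (M.presheaf.stalk y) := by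
  have key : ∀ (s : S) (v : f.fiber s) (z : X), f.fiberι s v = z → FlatMod.IsFlatOverAt f M z →
      (2 : ℕ∞) ≤ LocCoh.depth ((f.fiber s).presheaf.stalk v)
        (((Scheme.Modules.pullback (f.fiberι s)).obj M).presheaf.stalk v) →
      (2 : ℕ∞) ≤ LocCoh.depth (X.presheaf.stalk z) (M.presheaf.stalk z) := by
    rintro s v z rfl hf h
    let z := f.fiberι s v
    obtain ⟨hsurj, hker⟩ := Groth.Agent.S9501.result f s v
    letI : Algebra (S.presheaf.stalk (f z)) (X.presheaf.stalk z) := (f.stalkMap z).hom.toAlgebra
    haveI : IsLocalHom (algebraMap (S.presheaf.stalk (f z)) (X.presheaf.stalk z)) :=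
      inferInstanceAs (IsLocalHom (f.stalkMap z).hom)
    letI : Algebra (X.presheaf.stalk z) ((f.fiber s).presheaf.stalk v) := ((f.fiberι s).stalkMap v).hom.toAlgebra
    letI := FlatMod.moduleStalkOver f M z
    haveI : IsScalarTower (S.presheaf.stalk (f z)) (X.presheaf.stalk z) (M.presheaf.stalk z) :=
      IsScalarTower.of_algebraMap_smul fun _ _ => rfl
    haveI : Module.Flat (S.presheaf.stalk (f z)) (M.presheaf.stalk z) := hf
    haveI : Module.Finite (X.presheaf.stalk z) (M.presheaf.stalk z) := ZClosLib.finite_stalk hM z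
    refine two_le_depth_of_fibre (S.presheaf.stalk (f z)) (X.presheaf.stalk z) (M.presheaf.stalk z)
      ((f.fiber s).presheaf.stalk v) hsurj hker ?_
    let e : (f.fiber s).presheaf.stalk v ⊗[X.presheaf.stalk z] M.presheaf.stalk z ≃ₗ[(f.fiber s).presheaf.stalk v]
        ((Scheme.Modules.pullback (f.fiberι s)).obj M).presheaf.stalk v :=
      ((KFlatLib.stalkPullIso (f.fiberι s) v).symm.app M).toLinearEquiv
    rw [CommAlgDim.depth_congr e]
    exact h
  exact key _ (f.asFiber y) y (f.fiberι_asFiber y) hflat h

end QGorBCLib
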