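import Groth.Agent.RefHullLib.BigOpen
import Groth.Agent.RefHullLib.NormalHull
import Groth.Agent.DepthLib.SkOpen
import Groth.Agent.DepthLib.GeomRkOpen
import Groth.Agent.AmpleDevLib.Pull
import Groth.Agent.KFlatLib.PerfectPull
import Groth.Agent.QGorSecLib.InvAt
import Groth.Prelude.Def_RelCanon

/-!
# Stalks of modules invertible at a point
-/

set_option autoImplicit false
set_option linter.style.haveILetI false
set_option backward.isDefEq.respectTransparency false
set_option backward.isDefEq.respectTransparency.types false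
set_option maxHeartbeats 1000000
set_option synthInstance.maxHeartbeats 200000

noncomputable section

universe u

open CategoryTheory CategoryTheory.Limits AlgebraicGeometry
open Groth.Agent

namespace QGorBCLib

variable {X : Scheme.{u}}

/-- The stalk of a module invertible at a point is the local ring. -/
theorem nonempty_stalk_equiv {L : X.Modules} {x : X} (h : RelCanon.InvertibleAt L x) :
    Nonempty (L.presheaf.stalk x ≃ₗ[X.presheaf.stalk x] X.presheaf.stalk x) := by
  obtain ⟨U, hx, ⟨e⟩⟩ := h
  suffices key : ∀ p : (U : Scheme.{u}),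
      Nonempty (L.presheaf.stalk (U.ι p) ≃ₗ[X.presheaf.stalk (U.ι p)] X.presheaf.stalk (U.ι p)) from key ⟨x, hx⟩
  intro p
  obtain ⟨σ, θ, hθ⟩ := RefHullLib.exists_restrict_stalk U.ι L p
  obtain ⟨e₀⟩ := RefHullLib.nonempty_stalk_unit (U : Scheme.{u}) p
  let t : (L.restrict U.ι).presheaf.stalk p ≃ₗ[(U : Scheme.{u}).presheaf.stalk p]
      (U : Scheme.{u}).presheaf.stalk p :=
    (LinearEquiv.ofBijective _ ((RefHullLib.isIso_iff_stalk e.hom).1 inferInstance p)).trans e₀.symm
  exact ⟨{ θ.symm.trans (t.toAddEquiv.trans σ.toAddEquiv) with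
    map_smul' := fun r v => by
      show σ (t (θ.symm (r • v))) = r • σ (t (θ.symm v))
      rw [RefHullLib.theta_symm σ θ hθ, map_smul, smul_eq_mul, map_mul, σ.apply_symm_apply, smul_eq_mul] }⟩

/-- A module invertible at a point has that point in its support. -/
theorem mem_support_of_invertibleAt {L : X.Modules} {x : X} (h : RelCanon.InvertibleAt L x) :
    x ∈ CohB1.support L := fun hs => by
  obtain ⟨e⟩ := nonempty_stalk_equiv h
  exact not_subsingleton (X.presheaf.stalk x) (@Equiv.subsingleton _ _ e.symm.toEquiv hs)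

/-- A module invertible at a point is flat over the base there when the structure sheaf is. -/
theorem isFlatOverAt_of_invertibleAt {S : Scheme.{u}} (f : X ⟶ S) [Flat f] {L : X.Modules} {x : X}
    (h : RelCanon.InvertibleAt L x) : FlatMod.IsFlatOverAt f L x := by
  have h0 := (DepthLib.isFlatOverAt_structureModule_iff f x).2 (Flat.stalkMap f x)
  obtain ⟨e⟩ := nonempty_stalk_equiv h
  obtain ⟨e₀⟩ := RefHullLib.nonempty_stalk_unit X x
  let e₁ := e.trans e₀
  letI := FlatMod.moduleStalkOver f L x
  letI := FlatMod.moduleStalkOver f (Coh.structureModule X) x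
  haveI : Module.Flat (S.presheaf.stalk (f x)) ((Coh.structureModule X).presheaf.stalk x) := h0
  exact Module.Flat.of_linearEquiv (R := S.presheaf.stalk (f x))
    ({ e₁ with map_smul' := fun r v => e₁.map_smul ((f.stalkMap x).hom r) v } :
      L.presheaf.stalk x ≃ₗ[S.presheaf.stalk (f x)] (Coh.structureModule X).presheaf.stalk x)

/-- Invertibility pulls back. -/
theorem invertibleAt_pullback {X' : Scheme.{u}} (p : X' ⟶ X) {L : X.Modules} {x' : X'}
    (h : RelCanon.InvertibleAt L (p x')) : RelCanon.InvertibleAt ((Scheme.Modules.pullback p).obj L) x' := by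
  obtain ⟨U, hx, ⟨e⟩⟩ := h
  let e₁ := KFlatLib.pullUnitIso (p ∣_ U)
  exact ⟨p ⁻¹ᵁ U, hx, ⟨(Scheme.Modules.restrictFunctorIsoPullback (p ⁻¹ᵁ U).ι).app _ ≪≫
    (Scheme.Modules.pullbackComp (p ⁻¹ᵁ U).ι p).app L ≪≫
    (Scheme.Modules.pullbackCongr (morphismRestrict_ι p U).symm).app L ≪≫
    ((Scheme.Modules.pullbackComp (p ∣_ U) U.ι).app L).symm ≪≫
    (Scheme.Modules.pullback (p ∣_ U)).mapIso
      (((Scheme.Modules.restrictFunctorIsoPullback U.ι).app L).symm ≪≫ e) ≪≫ e₁⟩⟩

/-- A module invertible on a fibre has the Serre properties of the fibre. -/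
theorem skAt_pullback_fiber_of_invertibleAt {S : Scheme.{u}} (f : X ⟶ S) {L : X.Modules} {x : X}
    (h : RelCanon.InvertibleAt L x) (k : ℕ)
    (hk : RelCanon.SkAt k (Coh.structureModule (f.fiber (f x))) (f.asFiber x)) :
    RelCanon.SkAt k ((Scheme.Modules.pullback (f.fiberι (f x))).obj L) (f.asFiber x) := by
  obtain ⟨e⟩ := nonempty_stalk_equiv (invertibleAt_pullback (f.fiberι (f x)) (x' := f.asFiber x)
    (by rw [f.fiberι_asFiber]; exact h))
  obtain ⟨e₀⟩ := RefHullLib.nonempty_stalk_unit (f.fiber (f x)) (f.asFiber x)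
  exact DepthLib.hasSk_congr (e.trans e₀).symm k hk

end QGorBCLib
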