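import Groth.Agent.RelDualCMLib.BC
import Groth.Agent.QGorSecLib.Setup
import Groth.Agent.QGorEndLib.Conc
import Groth.Agent.ShriekLib.FlatBC

/-!
# Base change of the relative canonical sheaf on the Cohen–Macaulay locus
-/

set_option autoImplicit false
set_option linter.style.haveILetI false
set_option linter.unusedSectionVars false
set_option backward.isDefEq.respectTransparency false
set_option backward.isDefEq.respectTransparency.types false
set_option maxHeartbeats 2000000
set_option synthInstance.maxHeartbeats 200000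

noncomputable section

universe u

open CategoryTheory CategoryTheory.Limits AlgebraicGeometry DerivedCategory
open Groth.Agent Groth.Agent.DualFMLib Groth.Agent.Dual3Lib

attribute [local instance] HasDerivedCategory.standard

namespace QGorBCLib

/-- The inverse image of a restriction. -/
def restrictPullIso {X' X : Scheme.{u}} (p : X' ⟶ X) (V : X.Opens) (M : X.Modules) :
    (Scheme.Modules.pullback (p ∣_ V)).obj (M.restrict V.ι) ≅
      ((Scheme.Modules.pullback p).obj M).restrict (p ⁻¹ᵁ V).ι :=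
  (Scheme.Modules.pullback (p ∣_ V)).mapIso ((Scheme.Modules.restrictFunctorIsoPullback V.ι).app M) ≪≫
    (Scheme.Modules.pullbackComp (p ∣_ V) V.ι).app M ≪≫
    (Scheme.Modules.pullbackCongr (morphismRestrict_ι p V)).app M ≪≫
    ((Scheme.Modules.pullbackComp (p ⁻¹ᵁ V).ι p).app M).symm ≪≫
    ((Scheme.Modules.restrictFunctorIsoPullback (p ⁻¹ᵁ V).ι).app _).symm

variable {A : Type u} [CommRing A] [IsNoetherianRing A] {X : Scheme.{u}} [X.Over (Spec (CommRingCat.of A))]
  [IsProper (X ↘ Spec (CommRingCat.of A))] [Flat (X ↘ Spec (CommRingCat.of A))] {d : ℕ}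
  (hd : Cyc.HasRelDim (X ↘ Spec (CommRingCat.of A)) d) {ω : X.Modules}
  (hω : RelCanon.IsDualizingSheaf A X d ω)
  {B : Type u} [CommRing B] [IsNoetherianRing B] {X' : Scheme.{u}} [X'.Over (Spec (CommRingCat.of B))]
  {g : Spec (CommRingCat.of B) ⟶ Spec (CommRingCat.of A)} {p : X' ⟶ X}
  (sq : IsPullback p (X' ↘ Spec (CommRingCat.of B)) (X ↘ Spec (CommRingCat.of A)) g)
  {ω' : X'.Modules} (hω' : RelCanon.IsDualizingSheaf B X' d ω')

include hd hω sq hω' in
/-- Over Cohen–Macaulay points the inverse image of the relative canonical sheaf is the relative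
canonical sheaf of the base change. -/
theorem nonempty_restrict_iso (V : X.Opens) (hV : ∀ y ∈ V, MoreMor.IsCMAt (X ↘ Spec (CommRingCat.of A)) y) :
    Nonempty (((Scheme.Modules.pullback p).obj ω).restrict (p ⁻¹ᵁ V).ι ≅ ω'.restrict (p ⁻¹ᵁ V).ι) := by
  let f := X ↘ Spec (CommRingCat.of A)
  let f' := X' ↘ Spec (CommRingCat.of B)
  haveI : IsNoetherianRing (CommRingCat.of A) := ‹IsNoetherianRing A›
  haveI : IsNoetherianRing (CommRingCat.of B) := ‹IsNoetherianRing B›
  haveI : IsProper f' := MorphismProperty.of_isPullback (P := @IsProper) sq inferInstance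
  haveI : IsLocallyNoetherian X := LocallyOfFiniteType.isLocallyNoetherian f
  haveI : IsLocallyNoetherian X' := LocallyOfFiniteType.isLocallyNoetherian f'
  haveI : LocallyOfFinitePresentation f := ⟨fun {U} hU {W} hW e => by
    haveI : IsNoetherianRing Γ(Spec (CommRingCat.of A), U) := IsLocallyNoetherian.component_noetherian ⟨U, hU⟩
    exact RingHom.FinitePresentation.of_finiteType.mp (LocallyOfFiniteType.finiteType_appLE f hU hW e)⟩
  haveI : CompactSpace X := QuasiCompact.compactSpace_of_compactSpace f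
  haveI : QuasiSeparatedSpace X := quasiSeparatedSpace_of_quasiSeparated f
  haveI : CompactSpace X' := QuasiCompact.compactSpace_of_compactSpace f'
  haveI : QuasiSeparatedSpace X' := quasiSeparatedSpace_of_quasiSeparated f'
  haveI : IsNoetherian X := ⟨⟩
  haveI : IsNoetherian X' := ⟨⟩
  haveI : QuasiCompact g := quasiCompact_of_compactSpace _
  haveI : QuasiCompact p := quasiCompact_of_compactSpace _
  haveI := DCohRestrLib.hasRpush f
  haveI := DCohRestrLib.hasRpush f'
  haveI := DCohRestrLib.hasRpush g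
  haveI := DCohRestrLib.hasRpush p
  haveI := KFlatLib.hasLpull g
  haveI := KFlatLib.hasLpull p
  have hf : DCoh.RpushPreservesQCoh f := fun K hK => QRlimLib.isQCohD_rpush f hK
  have hf' : DCoh.RpushPreservesQCoh f' := fun K hK => QRlimLib.isQCohD_rpush f' hK
  have hg : DCoh.RpushPreservesQCoh g := fun K hK => QRlimLib.isQCohD_rpush g hK
  have hp : DCoh.RpushPreservesQCoh p := fun K hK => QRlimLib.isQCohD_rpush p hK
  haveI := KoszOrthLib.isLeftAdjoint_rpushQ f hf
  haveI := KoszOrthLib.isLeftAdjoint_rpushQ f' hf'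
  let adj := Adjunction.ofIsLeftAdjoint (DCoh.RpushQ f hf)
  let adj' := Adjunction.ofIsLeftAdjoint (DCoh.RpushQ f' hf')
  let a := (DCoh.RpushQ f hf).rightAdjoint
  let a' := (DCoh.RpushQ f' hf').rightAdjoint
  let O := RelDualCMLib.unitQ (Spec (CommRingCat.of A))
  let O' := RelDualCMLib.unitQ (Spec (CommRingCat.of B))
  obtain ⟨e, hξ, hbc⟩ := Groth.Agent.S3603.result X (Spec (CommRingCat.of A)) X' (Spec (CommRingCat.of B)) f g f' p
    sq hf hf' hg hp a a' adj adj' (KFlatLib.isQCohD_lpull g) (KFlatLib.isQCohD_lpull p)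
    (adjQ (KFlatLib.isQCohD_lpull g) hg) (adjQ (KFlatLib.isQCohD_lpull p) hp)
  haveI := hbc O
  obtain ⟨eL⟩ := RelDualCMLib.nonempty_lpull_O O ⟨Iso.refl _⟩ g
  let b : (DCoh.Lpull p).obj (a.obj O).obj ≅ (a'.obj O').obj :=
    (DCoh.IsQCohD (X := X')).ι.mapIso (asIso (Dual3.bcMap adj adj' e
      (adjQ (KFlatLib.isQCohD_lpull g) hg) (adjQ (KFlatLib.isQCohD_lpull p) hp) O (hξ _))) ≪≫
    (DCoh.IsQCohD (X := X')).ι.mapIso (a'.mapIso
      ((DCoh.IsQCohD (X := Spec (CommRingCat.of B))).fullyFaithfulι.preimageIso eL))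
  obtain ⟨w⟩ := QGorBridgeLib.nonempty_iso_HD adj O ⟨Iso.refl _⟩ d (QGorSecLib.fibre_dim_le hd) hω
  obtain ⟨w'⟩ := QGorBridgeLib.nonempty_iso_HD adj' O' ⟨Iso.refl _⟩ d (fun y => by
    rw [FibDimLib.topologicalKrullDim_fiber_baseChange sq y]
    exact QGorSecLib.fibre_dim_le hd _) hω'
  -- the square of the open sets
  let V' := p ⁻¹ᵁ V
  let gV : (V' : Scheme.{u}) ⟶ (V : Scheme.{u}) := p ∣_ V
  haveI : IsLocallyNoetherian (V : Scheme.{u}) := LocallyOfFiniteType.isLocallyNoetherian V.ι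
  haveI : CompactSpace (V : Scheme.{u}) := isCompact_univ_iff.1
    (V.ι.isOpenEmbedding.isInducing.isCompact_iff.2 (TopologicalSpace.NoetherianSpace.isCompact _))
  haveI : IsNoetherian (V : Scheme.{u}) := ⟨⟩
  haveI : IsLocallyNoetherian (V' : Scheme.{u}) := LocallyOfFiniteType.isLocallyNoetherian V'.ι
  haveI : CompactSpace (V' : Scheme.{u}) := isCompact_univ_iff.1
    (V'.ι.isOpenEmbedding.isInducing.isCompact_iff.2 (TopologicalSpace.NoetherianSpace.isCompact _))
  haveI : IsNoetherian (V' : Scheme.{u}) := ⟨⟩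
  haveI := KFlatLib.hasLpull gV
  obtain ⟨s⟩ := ShriekLib.nonempty_restrict_lpull_square V.ι V'.ι gV p (morphismRestrict_ι p V)
  let KV := (DCoh.restrictD V.ι).obj (a.obj O).obj
  haveI : KV.IsLE (-(d : ℤ)) := (isLE_iff _ _).2 fun i hi =>
    (DCohRestrLib.isZero_iff_subsingleton_stalks _).2 fun v => by
      haveI := (QGorEndLib.concentrated_at f hf a adj O ⟨Iso.refl _⟩ d (fun y Z hZ => hd y Z hZ) v.1 (hV _ v.2)).1 i
        (by omega)
      exact (DCohRestrLib.subsingleton_stalk_of_iso (DCohRestrLib.restrictHDIso V.ι _ i) v).2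
        ((DCohRestrLib.subsingleton_stalk_restrict V.ι _ v).2 this)
  obtain ⟨u⟩ := RelDualCMLib.nonempty_HD_lpull_top gV KV (-(d : ℤ))
  exact ⟨(restrictPullIso p V ω).symm ≪≫
    (Scheme.Modules.pullback gV).mapIso ((Scheme.Modules.restrictFunctor V.ι).mapIso w ≪≫
      (DCohRestrLib.restrictHDIso V.ι _ _).symm) ≪≫ u.symm ≪≫
    (homologyFunctor (V' : Scheme.{u}).Modules (-(d : ℤ))).mapIso
      (s.app (a.obj O).obj ≪≫ (DCoh.restrictD V'.ι).mapIso b) ≪≫
    DCohRestrLib.restrictHDIso V'.ι _ _ ≪≫ (Scheme.Modules.restrictFunctor V'.ι).mapIso w'.symm⟩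

end QGorBCLib
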