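import Groth.Agent.CubeConsLib.IsoCls
import Groth.Agent.HomRestrLib.Basic
import Groth.Agent.FLILib.Invertible
import Groth.Agent.LMLib.Dual
import Groth.Agent.LMLib.End
import Groth.Agent.MiscFlat6.QALocus
import Groth.Agent.RefHullLib.BigOpen
import Groth.Agent.RefHullLib.Reflexive
import Groth.Agent.PicOneLib.Twist
import Groth.Agent.BddFamLib.Ops
import Groth.Agent.QGorSecLib.InvAt
import Groth.Agent.QGorSecLib.Setup
import Groth.Agent.QGorBCLib.Iso

/-!
# Reflexive powers on an open where the module is invertible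
-/

set_option autoImplicit false
set_option linter.style.haveILetI false
set_option linter.unusedSectionVars false
set_option backward.isDefEq.respectTransparency false
set_option backward.isDefEq.respectTransparency.types false
set_option maxHeartbeats 1000000
set_option synthInstance.maxHeartbeats 200000

noncomputable section

universe u

open CategoryTheory CategoryTheory.Limits AlgebraicGeometry
open Groth.Agent
open CohCmpLib (homMod)
open CubeConsLib (IsoCls cl cl_eq_iff pull pull_cl)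

namespace QGorBCLib

variable {X : Scheme.{u}}

/-- An open on which a module is invertible consists of points of invertibility. -/
theorem invertibleAt_of_isInvertible_restrict {U : X.Opens} {T : X.Modules}
    (hT : PicF.IsInvertible (T.restrict U.ι)) (x : X) (hx : x ∈ U) : RelCanon.InvertibleAt T x := by
  obtain ⟨W, hxW, ⟨e⟩⟩ := hT ⟨x, hx⟩
  exact QGorSecLib.invertibleAt_of_restrict (W.ι ≫ U.ι)
    ((Scheme.Modules.restrictFunctorComp W.ι U.ι).app T ≪≫ e) ⟨⟨x, hx⟩, hxW⟩

/-- The double dual agrees with the module where it is invertible. -/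
theorem nonempty_ddual_restrict [IsLocallyNoetherian X] {U : X.Opens} {T : X.Modules} (hc : Coh.IsCoh T)
    (hT : PicF.IsInvertible (T.restrict U.ι)) :
    Nonempty ((RefHull.ddual T).restrict U.ι ≅ T.restrict U.ι) := by
  haveI := RefHullLib.isIso_restrict U.ι (RefHull.bidualMap T) fun v =>
    (RefHullLib.bijective_stalk_bidual_iff hc _).2
      (QGorSecLib.isReflexiveAt_of_invertibleAt (invertibleAt_of_isInvertible_restrict hT v.1 v.2))
  exact ⟨(asIso ((Scheme.Modules.restrictFunctor U.ι).map (RefHull.bidualMap T))).symm⟩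

/-- The class of a restriction. -/
theorem cl_restrict (U : X.Opens) (M : X.Modules) : cl (M.restrict U.ι) = pull U.ι (cl M) :=
  cl_eq_iff.2 ⟨(Scheme.Modules.restrictFunctorIsoPullback U.ι).app M⟩

theorem cl_tensorPow (L : X.Modules) : ∀ n : ℕ, cl (CohB1.tensorPow L n) = cl L ^ n
  | 0 => (pow_zero (cl L)).symm
  | n + 1 => by rw [pow_succ, ← cl_tensorPow L n]; rfl

/-- Where `F` is invertible, the dual of `F` is inverse to it. -/
theorem cl_dual_mul {U : X.Opens} {F : X.Modules} (hF : PicF.IsInvertible (F.restrict U.ι)) :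
    cl ((RefHull.dual F).restrict U.ι) * cl (F.restrict U.ι) = 1 := by
  obtain ⟨e₀⟩ := MiscFlat6.nonempty_restrict_structureModule (X := X) U.ι
  obtain ⟨e₁⟩ := LMLib.nonempty_homMod_right (F.restrict U.ι) e₀
  obtain ⟨e⟩ := MiscFlat6.nonempty_dualIso hF
  have h1 : cl ((RefHull.dual F).restrict U.ι) = cl (MiscFlat6.dual (F.restrict U.ι)) :=
    cl_eq_iff.2 ⟨(Scheme.Modules.restrictFunctor U.ι).mapIso (LMLib.homShIso F (Coh.structureModule X)) ≪≫
      (HomRestrLib.restrHomFun U.ι F).app (Coh.structureModule X) ≪≫ e₁ ≪≫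
      FLI.homModIso e _ ≪≫ HilbPolyLib.swapIso _ _ ≪≫ HilbPolyLib.unitLeft _⟩
  rw [h1, mul_comm]
  exact CubeConsLib.cl_eq_one_iff.2 ⟨e⟩

/-- Where `F` is invertible the dual of `F` is invertible. -/
theorem isInvertible_dual_restrict {U : X.Opens} {F : X.Modules} (hF : PicF.IsInvertible (F.restrict U.ι)) :
    PicF.IsInvertible ((RefHull.dual F).restrict U.ι) := by
  obtain ⟨e⟩ := MiscFlat6.nonempty_dualIso hF
  have h : cl (F.restrict U.ι) * cl (MiscFlat6.dual (F.restrict U.ι)) = 1 := CubeConsLib.cl_eq_one_iff.2 ⟨e⟩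
  obtain ⟨e'⟩ := cl_eq_iff.1 (left_inv_eq_right_inv (cl_dual_mul hF) h)
  exact HilbPolyLib.isInvertible_of_iso e'.symm (MiscFlat6.dual_isInvertible hF)

theorem isInvertible_tensorPow_restrict {U : X.Opens} {F : X.Modules} (hF : PicF.IsInvertible (F.restrict U.ι))
    (n : ℕ) : PicF.IsInvertible ((CohB1.tensorPow F n).restrict U.ι) := by
  obtain ⟨e⟩ := cl_eq_iff.1 (show cl (CohB1.tensorPow (F.restrict U.ι) n) =
    cl ((CohB1.tensorPow F n).restrict U.ι) by
      rw [cl_tensorPow, cl_restrict, cl_restrict, cl_tensorPow, map_pow])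
  exact HilbPolyLib.isInvertible_of_iso e (PicOneLib.isInvertible_tensorPow hF n)

theorem isCoh_tensorPow [IsLocallyNoetherian X] {F : X.Modules} (hF : Coh.IsCoh F) :
    ∀ n : ℕ, Coh.IsCoh (CohB1.tensorPow F n)
  | 0 => DevissLib.isCoh_structureModule X
  | n + 1 => BddFamLib.isCoh_tensorMod (isCoh_tensorPow hF n) hF

theorem isCoh_refPowZ [IsLocallyNoetherian X] {F : X.Modules} (hF : Coh.IsCoh F) :
    ∀ m : ℤ, Coh.IsCoh (RelCanon.refPowZ F m)
  | Int.ofNat n => RefHullLib.isCoh_dual (RefHullLib.isCoh_dual (isCoh_tensorPow hF n))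
  | Int.negSucc n => RefHullLib.isCoh_dual (RefHullLib.isCoh_dual (isCoh_tensorPow (RefHullLib.isCoh_dual hF) _))

/-- Reflexive powers are invertible where the module is. -/
theorem isInvertible_refPowZ_restrict [IsLocallyNoetherian X] {U : X.Opens} {F : X.Modules} (hc : Coh.IsCoh F)
    (hF : PicF.IsInvertible (F.restrict U.ι)) :
    ∀ m : ℤ, PicF.IsInvertible ((RelCanon.refPowZ F m).restrict U.ι)
  | Int.ofNat n => by
    obtain ⟨e⟩ := nonempty_ddual_restrict (isCoh_tensorPow hc n) (isInvertible_tensorPow_restrict hF n)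
    exact HilbPolyLib.isInvertible_of_iso e.symm (isInvertible_tensorPow_restrict hF n)
  | Int.negSucc n => by
    obtain ⟨e⟩ := nonempty_ddual_restrict (isCoh_tensorPow (RefHullLib.isCoh_dual hc) _)
      (isInvertible_tensorPow_restrict (isInvertible_dual_restrict hF) (n + 1))
    exact HilbPolyLib.isInvertible_of_iso e.symm
      (isInvertible_tensorPow_restrict (isInvertible_dual_restrict hF) (n + 1))

variable {X' : Scheme.{u}} (p : X' ⟶ X)

theorem cl_pullback_restrict (U : X.Opens) (M : X.Modules) :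
    cl (((Scheme.Modules.pullback p).obj M).restrict (p ⁻¹ᵁ U).ι) = pull (p ∣_ U) (cl (M.restrict U.ι)) :=
  cl_eq_iff.2 ⟨(restrictPullIso p U M).symm⟩

/-- Reflexive powers commute with inverse image where the module is invertible. -/
theorem nonempty_refPowZ_pullback_restrict [IsLocallyNoetherian X] [IsLocallyNoetherian X'] {U : X.Opens}
    {F : X.Modules} {F' : X'.Modules} (hc : Coh.IsCoh F) (hc' : Coh.IsCoh F')
    (hF : PicF.IsInvertible (F.restrict U.ι))
    (e : ((Scheme.Modules.pullback p).obj F).restrict (p ⁻¹ᵁ U).ι ≅ F'.restrict (p ⁻¹ᵁ U).ι) (m : ℤ) :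
    Nonempty (((Scheme.Modules.pullback p).obj (RelCanon.refPowZ F m)).restrict (p ⁻¹ᵁ U).ι ≅
      (RelCanon.refPowZ F' m).restrict (p ⁻¹ᵁ U).ι) := by
  refine cl_eq_iff.1 ?_
  have hu : cl (F'.restrict (p ⁻¹ᵁ U).ι) = pull (p ∣_ U) (cl (F.restrict U.ι)) :=
    (cl_eq_iff.2 ⟨e.symm⟩).trans (cl_pullback_restrict p U F)
  have hF' : PicF.IsInvertible (F'.restrict (p ⁻¹ᵁ U).ι) := HilbPolyLib.isInvertible_of_iso
    (restrictPullIso p U F ≪≫ e) (AmpleDevLib.isInvertible_pb (p ∣_ U) hF)
  rw [cl_pullback_restrict]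
  cases m with
  | ofNat n =>
    show pull (p ∣_ U) (cl ((RefHull.ddual (CohB1.tensorPow F n)).restrict U.ι)) =
      cl ((RefHull.ddual (CohB1.tensorPow F' n)).restrict (p ⁻¹ᵁ U).ι)
    rw [cl_eq_iff.2 (nonempty_ddual_restrict (isCoh_tensorPow hc n) (isInvertible_tensorPow_restrict hF n)),
      cl_eq_iff.2 (nonempty_ddual_restrict (isCoh_tensorPow hc' n) (isInvertible_tensorPow_restrict hF' n)),
      cl_restrict (p ⁻¹ᵁ U) (CohB1.tensorPow F' n), cl_restrict U (CohB1.tensorPow F n), cl_tensorPow,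
      cl_tensorPow, map_pow, map_pow, map_pow, ← cl_restrict (p ⁻¹ᵁ U) F', hu, ← cl_restrict U F]
  | negSucc n =>
    have hv : cl ((RefHull.dual F').restrict (p ⁻¹ᵁ U).ι) = pull (p ∣_ U) (cl ((RefHull.dual F).restrict U.ι)) := by
      refine left_inv_eq_right_inv (cl_dual_mul hF') ?_
      rw [hu, ← map_mul, mul_comm, cl_dual_mul hF, map_one]
    show pull (p ∣_ U) (cl ((RefHull.ddual (CohB1.tensorPow (RefHull.dual F) (n + 1))).restrict U.ι)) =
      cl ((RefHull.ddual (CohB1.tensorPow (RefHull.dual F') (n + 1))).restrict (p ⁻¹ᵁ U).ι)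
    rw [cl_eq_iff.2 (nonempty_ddual_restrict (isCoh_tensorPow (RefHullLib.isCoh_dual hc) _)
        (isInvertible_tensorPow_restrict (isInvertible_dual_restrict hF) (n + 1))),
      cl_eq_iff.2 (nonempty_ddual_restrict (isCoh_tensorPow (RefHullLib.isCoh_dual hc') _)
        (isInvertible_tensorPow_restrict (isInvertible_dual_restrict hF') (n + 1))),
      cl_restrict (p ⁻¹ᵁ U) (CohB1.tensorPow (RefHull.dual F') (n + 1)),
      cl_restrict U (CohB1.tensorPow (RefHull.dual F) (n + 1)), cl_tensorPow, cl_tensorPow, map_pow, map_pow,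
      map_pow, ← cl_restrict (p ⁻¹ᵁ U) (RefHull.dual F'), hv, ← cl_restrict U (RefHull.dual F)]

end QGorBCLib
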