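import Groth.Agent.QGorBCLib.Main
import Groth.Agent.QGorBCLib.RefPow
import Groth.Agent.QGorBCLib.InvStalk
import Groth.Agent.GorOpenLib.Mor
import Groth.Agent.CMFlatLib.BaseChange

/-!
# Base change of the reflexive powers of the relative canonical sheaf
-/

set_option autoImplicit false
set_option linter.style.haveILetI false
set_option linter.unusedSectionVars false
set_option backward.isDefEq.respectTransparency false
set_option backward.isDefEq.respectTransparency.types false
set_option maxHeartbeats 1000000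
set_option synthInstance.maxHeartbeats 200000

noncomputable section

universe u

open CategoryTheory CategoryTheory.Limits AlgebraicGeometry
open Groth.Agent

attribute [local instance] HasDerivedCategory.standard

namespace QGorBCLib

/-- Invertibility at all points of an open. -/
theorem isInvertible_restrict_of_invertibleAt {X : Scheme.{u}} {U : X.Opens} {L : X.Modules}
    (h : ∀ x ∈ U, RelCanon.InvertibleAt L x) : PicF.IsInvertible (L.restrict U.ι) := fun q => by
  obtain ⟨W, hxW, ⟨e⟩⟩ := h q.1 q.2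
  let W' : (U : Scheme.{u}).Opens := U.ι ⁻¹ᵁ W
  let k : (W' : Scheme.{u}) ⟶ (W : Scheme.{u}) := IsOpenImmersion.lift W.ι (W'.ι ≫ U.ι) (by
    rintro _ ⟨w, rfl⟩
    exact ⟨⟨_, w.2⟩, rfl⟩)
  have hk : k ≫ W.ι = W'.ι ≫ U.ι := IsOpenImmersion.lift_fac _ _ _
  haveI : IsOpenImmersion k := by
    haveI : IsOpenImmersion (k ≫ W.ι) := by rw [hk]; infer_instance
    exact IsOpenImmersion.of_comp k W.ι
  obtain ⟨e₀⟩ := MiscFlat6.nonempty_restrict_structureModule (X := (W : Scheme.{u})) k
  exact ⟨W', hxW, ⟨((Scheme.Modules.restrictFunctorComp W'.ι U.ι).app L).symm ≪≫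
    (Scheme.Modules.restrictFunctorCongr hk.symm).app L ≪≫ (Scheme.Modules.restrictFunctorComp k W.ι).app L ≪≫
    (Scheme.Modules.restrictFunctor k).mapIso e ≪≫ e₀⟩⟩

/-- A coherent module with a dense-in-fibres open inside its support is supported everywhere. -/
theorem support_eq_univ {X S : Scheme.{u}} [IsLocallyNoetherian X] (f : X ⟶ S) [LocallyOfFiniteType f]
    {M : X.Modules} (hM : Coh.IsCoh M) (U : X.Opens)
    (hcod : ∀ y : X, y ∉ U → (2 : WithBot ℕ∞) ≤ ringKrullDim ((f.fiber (f y)).presheaf.stalk (f.asFiber y)))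
    (hU : ∀ z ∈ U, z ∈ CohB1.support M) : CohB1.support M = Set.univ := by
  haveI := hM.1
  refine Set.eq_univ_of_forall fun y => ?_
  obtain ⟨ξ, hξy, hmax⟩ := AlgSpLib.exists_maximal_generization (f.asFiber y)
  obtain ⟨z, hz⟩ : ∃ z, f.fiberι (f y) ξ = z := ⟨_, rfl⟩
  have hzy : z ⤳ y := by
    have h := hξy.map (f.fiberι (f y)).continuous
    rwa [hz, f.fiberι_asFiber] at h
  refine hzy.mem_closed (QCohLib.isClosed_support M hM.2) (hU z ?_)
  by_contra hn
  have h := hcod z hn
  rw [← AlgSpLib.stalkDim_fiber_congr f (f y) ξ z hz, AlgSpLib.stalkDim_eq_zero_of_maximal ξ hmax] at h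
  exact absurd h (by decide)

variable {A : Type u} [CommRing A] [IsNoetherianRing A] {Y : Scheme.{u}} [Y.Over (Spec (CommRingCat.of A))]
  [IsProper (Y ↘ Spec (CommRingCat.of A))] [Flat (Y ↘ Spec (CommRingCat.of A))] {d : ℕ}
  (hd : Cyc.HasRelDim (Y ↘ Spec (CommRingCat.of A)) d) {ω : Y.Modules}
  (hω : RelCanon.IsDualizingSheaf A Y d ω)
  (hS : RelCanon.IsSkMor (Y ↘ Spec (CommRingCat.of A)) 2)
  (hG : ∀ y : Y, y ∉ RelCanon.gorLocus (Y ↘ Spec (CommRingCat.of A)) → (2 : WithBot ℕ∞) ≤
    ringKrullDim (((Y ↘ Spec (CommRingCat.of A)).fiber ((Y ↘ Spec (CommRingCat.of A)) y)).presheaf.stalk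
      ((Y ↘ Spec (CommRingCat.of A)).asFiber y)))

variable (A Y) in
/-- The relative Gorenstein locus. -/
theorem isOpen_gorLocus : IsOpen (RelCanon.gorLocus (Y ↘ Spec (CommRingCat.of A))) := by
  haveI : LocallyOfFinitePresentation (Y ↘ Spec (CommRingCat.of A)) := ⟨fun {U} hU {W} hW e => by
    haveI : IsNoetherianRing (CommRingCat.of A) := ‹IsNoetherianRing A›
    haveI : IsNoetherianRing Γ(Spec (CommRingCat.of A), U) := IsLocallyNoetherian.component_noetherian ⟨U, hU⟩
    exact RingHom.FinitePresentation.of_finiteType.mp (LocallyOfFiniteType.finiteType_appLE _ hU hW e)⟩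
  exact GorOpenLib.isOpen_gorAt _

variable (A Y) in
/-- The relative Gorenstein locus as an open set. -/
def gorOpen : Y.Opens := ⟨RelCanon.gorLocus (Y ↘ Spec (CommRingCat.of A)), isOpen_gorLocus A Y⟩

include hd hω in
theorem isInvertible_gorOpen : PicF.IsInvertible (ω.restrict (gorOpen A Y).ι) :=
  isInvertible_restrict_of_invertibleAt fun _ hy => QGorSecLib.invertibleAt_dualizing hd hω hy

include hd hω hG in
theorem support_refPowZ (m : ℤ) : CohB1.support (RelCanon.refPowZ ω m) = Set.univ := by
  haveI : IsNoetherianRing (CommRingCat.of A) := ‹IsNoetherianRing A›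
  haveI : IsLocallyNoetherian Y := LocallyOfFiniteType.isLocallyNoetherian (Y ↘ Spec (CommRingCat.of A))
  exact support_eq_univ _ (isCoh_refPowZ (QGorSecLib.isCoh_dualizing hd hω) m) (gorOpen A Y) hG fun z hz =>
    mem_support_of_invertibleAt (invertibleAt_of_isInvertible_restrict
      (isInvertible_refPowZ_restrict (QGorSecLib.isCoh_dualizing hd hω) (isInvertible_gorOpen hd hω) m) z hz)

variable {B : Type u} [CommRing B] [IsNoetherianRing B] {Y' : Scheme.{u}} [Y'.Over (Spec (CommRingCat.of B))]
  {g : Spec (CommRingCat.of B) ⟶ Spec (CommRingCat.of A)} {p : Y' ⟶ Y}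
  (sq : IsPullback p (Y' ↘ Spec (CommRingCat.of B)) (Y ↘ Spec (CommRingCat.of A)) g)
  {ω' : Y'.Modules} (hω' : RelCanon.IsDualizingSheaf B Y' d ω')

include hS hG sq in
/-- The structure sheaf of the base change extends across the non-Gorenstein points. -/
theorem extends_structureModule_baseChange :
    QGorSecLib.Extends (p ⁻¹ᵁ gorOpen A Y) (Coh.structureModule Y') := by
  let f := Y ↘ Spec (CommRingCat.of A)
  haveI : IsNoetherianRing (CommRingCat.of A) := ‹IsNoetherianRing A›
  haveI : IsNoetherianRing (CommRingCat.of B) := ‹IsNoetherianRing B›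
  haveI : IsProper (Y' ↘ Spec (CommRingCat.of B)) :=
    MorphismProperty.of_isPullback (P := @IsProper) sq inferInstance
  haveI : IsLocallyNoetherian Y := LocallyOfFiniteType.isLocallyNoetherian f
  haveI : IsLocallyNoetherian Y' := LocallyOfFiniteType.isLocallyNoetherian (Y' ↘ Spec (CommRingCat.of B))
  have hO := DevissLib.isCoh_structureModule Y
  have h : QGorSecLib.Extends (p ⁻¹ᵁ gorOpen A Y) ((Scheme.Modules.pullback p).obj (Coh.structureModule Y)) :=
    extends_pullback sq hO _ (fun y _ => (DepthLib.isFlatOverAt_structureModule_iff f y).2 (Flat.stalkMap f y))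
      fun y hy => two_le_fiberDepth f hO IntMultLib.support_structureModule' y (by
        obtain ⟨e⟩ := DepthLib.nonempty_pullback_unit_stalk (f.fiberι (f y)) (f.asFiber y)
        obtain ⟨e₀⟩ := RefHullLib.nonempty_stalk_unit (f.fiber (f y)) (f.asFiber y)
        exact DepthLib.hasSk_congr (e.trans e₀).symm 2 (hS.2.2 y)) (hG y hy)
  haveI := QGorSecLib.isIso_unit_of_extends _ h
  refine QGorSecLib.extends_of_isIso_unit _ ?_
  exact (NatTrans.isIso_app_iff_of_iso _ (KFlatLib.pullUnitIso p)).1 inferInstance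

include hS hG sq in
theorem extends_refPowZ_baseChange (F : Y'.Modules) (m : ℤ) :
    QGorSecLib.Extends (p ⁻¹ᵁ gorOpen A Y) (RelCanon.refPowZ F m) := by
  cases m with
  | ofNat n => exact QGorSecLib.extends_homSh _ (extends_structureModule_baseChange hS hG sq)
  | negSucc n => exact QGorSecLib.extends_homSh _ (extends_structureModule_baseChange hS hG sq)

include hd hω hS hG sq hω' in
/-- On the Gorenstein locus the reflexive powers commute with base change. -/
theorem nonempty_refPowZ_restrict_iso (m : ℤ) :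
    Nonempty (((Scheme.Modules.pullback p).obj (RelCanon.refPowZ ω m)).restrict (p ⁻¹ᵁ gorOpen A Y).ι ≅
      (RelCanon.refPowZ ω' m).restrict (p ⁻¹ᵁ gorOpen A Y).ι) := by
  haveI : IsNoetherianRing (CommRingCat.of A) := ‹IsNoetherianRing A›
  haveI : IsNoetherianRing (CommRingCat.of B) := ‹IsNoetherianRing B›
  haveI : IsProper (Y' ↘ Spec (CommRingCat.of B)) :=
    MorphismProperty.of_isPullback (P := @IsProper) sq inferInstance
  haveI : IsLocallyNoetherian Y := LocallyOfFiniteType.isLocallyNoetherian (Y ↘ Spec (CommRingCat.of A))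
  haveI : IsLocallyNoetherian Y' := LocallyOfFiniteType.isLocallyNoetherian (Y' ↘ Spec (CommRingCat.of B))
  obtain ⟨e⟩ := nonempty_restrict_iso hd hω sq hω' (gorOpen A Y)
    fun y hy => ⟨hy.1, CMFlatLib.cm_of_gorenstein hy.2⟩
  exact nonempty_refPowZ_pullback_restrict p (QGorSecLib.isCoh_dualizing hd hω)
    (QGorSecLib.isCoh_dualizing (FibDimLib.hasRelDim_baseChange sq hd) hω') (isInvertible_gorOpen hd hω) e m

include hd hω hS hG sq hω' in
/-- The double dual of the inverse image of a reflexive power is the reflexive power of the base change. -/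
theorem nonempty_ddual_pullback_iso (m : ℤ) :
    Nonempty (RefHull.ddual ((Scheme.Modules.pullback p).obj (RelCanon.refPowZ ω m)) ≅ RelCanon.refPowZ ω' m) := by
  haveI : IsNoetherianRing (CommRingCat.of A) := ‹IsNoetherianRing A›
  haveI : IsNoetherianRing (CommRingCat.of B) := ‹IsNoetherianRing B›
  haveI : IsProper (Y' ↘ Spec (CommRingCat.of B)) :=
    MorphismProperty.of_isPullback (P := @IsProper) sq inferInstance
  haveI : IsLocallyNoetherian Y := LocallyOfFiniteType.isLocallyNoetherian (Y ↘ Spec (CommRingCat.of A))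
  haveI : IsLocallyNoetherian Y' := LocallyOfFiniteType.isLocallyNoetherian (Y' ↘ Spec (CommRingCat.of B))
  obtain ⟨e⟩ := nonempty_refPowZ_restrict_iso hd hω hS hG sq hω' m
  have hc := QGorSecLib.isCoh_dualizing hd hω
  obtain ⟨e'⟩ := nonempty_ddual_restrict (ConsLib.isCoh_pullback p (isCoh_refPowZ hc m))
    (U := p ⁻¹ᵁ gorOpen A Y) (HilbPolyLib.isInvertible_of_iso (restrictPullIso p _ _)
      (AmpleDevLib.isInvertible_pb (p ∣_ gorOpen A Y)
        (isInvertible_refPowZ_restrict hc (isInvertible_gorOpen hd hω) m)))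
  exact ⟨isoOfExtends _ (QGorSecLib.extends_homSh _ (extends_structureModule_baseChange hS hG sq))
    (extends_refPowZ_baseChange hS hG sq ω' m) (e' ≪≫ e)⟩

include hd hω hS hG sq hω' in
/-- A reflexive power of relative `S₂` commutes with base change. -/
theorem nonempty_pullback_iso_of_relSk (m : ℤ)
    (h2 : RelCanon.RelSk (Y ↘ Spec (CommRingCat.of A)) 2 (RelCanon.refPowZ ω m)) :
    Nonempty ((Scheme.Modules.pullback p).obj (RelCanon.refPowZ ω m) ≅ RelCanon.refPowZ ω' m) := by
  let f := Y ↘ Spec (CommRingCat.of A)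
  haveI : IsNoetherianRing (CommRingCat.of A) := ‹IsNoetherianRing A›
  haveI : IsNoetherianRing (CommRingCat.of B) := ‹IsNoetherianRing B›
  haveI : IsProper (Y' ↘ Spec (CommRingCat.of B)) :=
    MorphismProperty.of_isPullback (P := @IsProper) sq inferInstance
  haveI : IsLocallyNoetherian Y := LocallyOfFiniteType.isLocallyNoetherian f
  haveI : IsLocallyNoetherian Y' := LocallyOfFiniteType.isLocallyNoetherian (Y' ↘ Spec (CommRingCat.of B))
  obtain ⟨e⟩ := nonempty_refPowZ_restrict_iso hd hω hS hG sq hω' m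
  have hc := isCoh_refPowZ (QGorSecLib.isCoh_dualizing hd hω) m
  exact ⟨isoOfExtends _ (extends_pullback sq hc _ (fun y _ => (h2 y).1) fun y hy =>
      two_le_fiberDepth f hc (support_refPowZ hd hω hG m) y (h2 y).2 (hG y hy))
    (extends_refPowZ_baseChange hS hG sq ω' m) e⟩

end QGorBCLib
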