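import Groth.Agent.QGorBCLib.Extends
import Groth.Agent.QGorBCLib.Iso
import Groth.Agent.QGorEndLib.CMCodim
import Groth.Agent.DepthLib.SuppDim
import Groth.Agent.AlgSpLib.HasAtMore
import Groth.Agent.AlgSpLib.CodimZero
import Groth.Agent.IntMultLib.Dim0
import Groth.Agent.FibDimLib.Comps
import Groth.Agent.CMFlatLib.Open

/-!
# Base change of the relative canonical sheaf
-/

set_option autoImplicit false
set_option linter.style.haveILetI false
set_option linter.unusedSectionVars false
set_option backward.isDefEq.respectTransparency false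
set_option backward.isDefEq.respectTransparency.types false
set_option maxHeartbeats 1000000
set_option synthInstance.maxHeartbeats 200000

noncomputable section

universe u

open CategoryTheory CategoryTheory.Limits AlgebraicGeometry
open Groth.Agent

attribute [local instance] HasDerivedCategory.standard

namespace QGorBCLib

/-- Two modules which extend across `U` and agree on `U` are isomorphic. -/
def isoOfExtends {X : Scheme.{u}} (U : X.Opens) {M N : X.Modules} (hM : QGorSecLib.Extends U M)
    (hN : QGorSecLib.Extends U N) (e : M.restrict U.ι ≅ N.restrict U.ι) : M ≅ N :=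
  haveI := QGorSecLib.isIso_unit_of_extends U hM
  haveI := QGorSecLib.isIso_unit_of_extends U hN
  asIso ((Scheme.Modules.restrictAdjunction U.ι).unit.app M) ≪≫
    (Scheme.Modules.pushforward U.ι).mapIso e ≪≫
    (asIso ((Scheme.Modules.restrictAdjunction U.ι).unit.app N)).symm

/-- Fibrewise codimension two is preserved by base change. -/
theorem two_le_dim_baseChange {X S X' S' : Scheme.{u}} {f : X ⟶ S} [LocallyOfFiniteType f] {g : S' ⟶ S}
    {g' : X' ⟶ X} {f' : X' ⟶ S'} (hc : IsPullback g' f' f g) {U : X.Opens}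
    (hcod : ∀ y : X, y ∉ U → (2 : WithBot ℕ∞) ≤ ringKrullDim ((f.fiber (f y)).presheaf.stalk (f.asFiber y)))
    (x : X') (hx : x ∉ g' ⁻¹ᵁ U) :
    (2 : WithBot ℕ∞) ≤ ringKrullDim ((f'.fiber (f' x)).presheaf.stalk (f'.asFiber x)) :=
  (hcod _ hx).trans (AlgSpLib.fibreStalk_baseChange hc x).1

/-- For a module supported everywhere, Serre's condition on the fibres gives depth two in codimension two. -/
theorem two_le_fiberDepth {X S : Scheme.{u}} [IsLocallyNoetherian X] (f : X ⟶ S) [LocallyOfFiniteType f] {M : X.Modules}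
    (hM : Coh.IsCoh M) (hs : CohB1.support M = Set.univ) (y : X)
    (h2 : RelCanon.SkAt 2 ((Scheme.Modules.pullback (f.fiberι (f y))).obj M) (f.asFiber y))
    (hy : (2 : WithBot ℕ∞) ≤ ringKrullDim ((f.fiber (f y)).presheaf.stalk (f.asFiber y))) :
    (2 : ℕ∞) ≤ CInt.fiberDepth f M y := by
  haveI := hM.1
  haveI : IsLocallyNoetherian (f.fiber (f y)) :=
    haveI := UOpenLib.lft_fiberToSpec f (f y)
    LocallyOfFiniteType.isLocallyNoetherian (f.fiberToSpecResidueField (f y))
  haveI : Coh.IsQCoh (Coh.structureModule X) := QCohLib.isQCoh_unit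
  have hd : Module.supportDim ((f.fiber (f y)).presheaf.stalk (f.asFiber y))
      (((Scheme.Modules.pullback (f.fiberι (f y))).obj M).presheaf.stalk (f.asFiber y)) =
      ringKrullDim ((f.fiber (f y)).presheaf.stalk (f.asFiber y)) := by
    obtain ⟨e⟩ := DepthLib.nonempty_pullback_unit_stalk (f.fiberι (f y)) (f.asFiber y)
    rw [← Module.supportDim_self_eq_ringKrullDim, ← Module.supportDim_eq_of_equiv e]
    refine (DepthLib.supportDim_fibre_stalk f M hM.2 y).2.trans ?_
    refine Eq.trans ?_ (DepthLib.supportDim_fibre_stalk f (Coh.structureModule X)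
      (DevissLib.isCoh_structureModule X).2 y).2.symm
    rw [IntMultLib.support_structureModule', hs]
  have h := (DepthLib.hasSk_pullback_stalk_iff (f.fiberι (f y)) M hM.2 (f.asFiber y) 2).1 h2 _ specializes_rfl
  rw [hd, min_eq_left (by exact_mod_cast hy)] at h
  exact WithBot.coe_le_coe.1 h

variable {A : Type u} [CommRing A] [IsNoetherianRing A] {Y : Scheme.{u}} [Y.Over (Spec (CommRingCat.of A))]
  [IsProper (Y ↘ Spec (CommRingCat.of A))] [Flat (Y ↘ Spec (CommRingCat.of A))] {d : ℕ}
  (hd : Cyc.HasRelDim (Y ↘ Spec (CommRingCat.of A)) d) {ω : Y.Modules}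
  (hω : RelCanon.IsDualizingSheaf A Y d ω)

include hd hω in
/-- The relative canonical sheaf of an `S₂`-morphism is supported everywhere. -/
theorem support_dualizing (hS : RelCanon.IsSkMor (Y ↘ Spec (CommRingCat.of A)) 2) :
    CohB1.support ω = Set.univ := by
  let f := Y ↘ Spec (CommRingCat.of A)
  haveI : IsNoetherianRing (CommRingCat.of A) := ‹IsNoetherianRing A›
  haveI : IsLocallyNoetherian Y := LocallyOfFiniteType.isLocallyNoetherian f
  have hcoh := QGorSecLib.isCoh_dualizing hd hω
  haveI := hcoh.1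
  refine Set.eq_univ_of_forall fun y => ?_
  obtain ⟨ξ, hξy, hmax⟩ := AlgSpLib.exists_maximal_generization (f.asFiber y)
  obtain ⟨z, hz⟩ : ∃ z, f.fiberι (f y) ξ = z := ⟨_, rfl⟩
  have hzy : z ⤳ y := by
    have h := hξy.map (f.fiberι (f y)).continuous
    rwa [hz, f.fiberι_asFiber] at h
  refine hzy.mem_closed (QCohLib.isClosed_support ω hcoh.2) ?_
  have hCM : MoreMor.IsCMAt f z := by
    by_contra hn
    have h := QGorEndLib.lt_dim_of_not_isCMAt f 2 z (hS.2.2 z) hn
    rw [← AlgSpLib.stalkDim_fiber_congr f (f y) ξ z hz, AlgSpLib.stalkDim_eq_zero_of_maximal ξ hmax] at h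
    exact absurd h (by decide)
  obtain ⟨_, hf, a, adj, O, hO, -, ⟨e⟩⟩ := QGorSecLib.exists_adjoint hd hω
  have hnt := (QGorEndLib.concentrated_at f hf a adj O hO d (fun y Z hZ => hd y Z hZ) z hCM).2.2
  exact fun h => not_subsingleton_iff_nontrivial.2 hnt ((DCohRestrLib.subsingleton_stalk_of_iso e z).1 h)

variable {B : Type u} [CommRing B] [IsNoetherianRing B] {Y' : Scheme.{u}} [Y'.Over (Spec (CommRingCat.of B))]
  {g : Spec (CommRingCat.of B) ⟶ Spec (CommRingCat.of A)} {p : Y' ⟶ Y}
  (sq : IsPullback p (Y' ↘ Spec (CommRingCat.of B)) (Y ↘ Spec (CommRingCat.of A)) g)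
  {ω' : Y'.Modules} (hω' : RelCanon.IsDualizingSheaf B Y' d ω')

include hd sq hω' in
/-- The relative canonical sheaf of the base change extends across a closed set of fibrewise codimension two. -/
theorem extends_dualizing_baseChange {U : Y.Opens}
    (hcod : ∀ y : Y, y ∉ U → (2 : WithBot ℕ∞) ≤ ringKrullDim (((Y ↘ Spec (CommRingCat.of A)).fiber
      ((Y ↘ Spec (CommRingCat.of A)) y)).presheaf.stalk ((Y ↘ Spec (CommRingCat.of A)).asFiber y))) :
    QGorSecLib.Extends (p ⁻¹ᵁ U) ω' := by
  haveI : IsProper (Y' ↘ Spec (CommRingCat.of B)) :=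
    MorphismProperty.of_isPullback (P := @IsProper) sq inferInstance
  exact QGorSecLib.extends_dualizing (FibDimLib.hasRelDim_baseChange sq hd) hω'
    (U := p ⁻¹ᵁ U) fun x hx => two_le_dim_baseChange sq hcod x hx

include hd hω sq hω' in
/-- A relative canonical sheaf of relative `S₂` commutes with base change. -/
theorem nonempty_pullback_iso_of_relSk_two (hS : RelCanon.IsSkMor (Y ↘ Spec (CommRingCat.of A)) 2)
    (h2 : RelCanon.RelSk (Y ↘ Spec (CommRingCat.of A)) 2 ω) :
    Nonempty ((Scheme.Modules.pullback p).obj ω ≅ ω') := by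
  let f := Y ↘ Spec (CommRingCat.of A)
  let f' := Y' ↘ Spec (CommRingCat.of B)
  haveI : IsNoetherianRing (CommRingCat.of A) := ‹IsNoetherianRing A›
  haveI : IsNoetherianRing (CommRingCat.of B) := ‹IsNoetherianRing B›
  haveI : IsProper f' := MorphismProperty.of_isPullback (P := @IsProper) sq inferInstance
  haveI : IsLocallyNoetherian Y' := LocallyOfFiniteType.isLocallyNoetherian f'
  haveI : IsLocallyNoetherian Y := LocallyOfFiniteType.isLocallyNoetherian f
  haveI : LocallyOfFinitePresentation f := ⟨fun {U} hU {W} hW e => by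
    haveI : IsNoetherianRing Γ(Spec (CommRingCat.of A), U) := IsLocallyNoetherian.component_noetherian ⟨U, hU⟩
    exact RingHom.FinitePresentation.of_finiteType.mp (LocallyOfFiniteType.finiteType_appLE f hU hW e)⟩
  let W : Y.Opens := ⟨{y | MoreMor.IsCMAt f y}, CMFlatLib.isOpen_isCMAt f⟩
  have hcod : ∀ y : Y, y ∉ W → (2 : WithBot ℕ∞) ≤ ringKrullDim ((f.fiber (f y)).presheaf.stalk (f.asFiber y)) :=
    fun y hy => le_of_lt (QGorEndLib.lt_dim_of_not_isCMAt f 2 y (hS.2.2 y) hy)
  obtain ⟨e⟩ := nonempty_restrict_iso hd hω sq hω' W fun y hy => hy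
  exact ⟨isoOfExtends (p ⁻¹ᵁ W)
    (extends_pullback sq (QGorSecLib.isCoh_dualizing hd hω) W (fun y _ => (h2 y).1) fun y hy =>
      two_le_fiberDepth f (QGorSecLib.isCoh_dualizing hd hω) (support_dualizing hd hω hS) y (h2 y).2 (hcod y hy))
    (extends_dualizing_baseChange hd sq hω' hcod) e⟩

end QGorBCLib
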