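import Groth.Agent.QGorBCLib.Gor
import Groth.Agent.CMFlatLib.BaseChangeScheme
import Groth.Agent.RichLib.ModFlatGlobal
import Groth.Agent.DepthLib.ModFib

/-!
# `ℚ`-Gorenstein families under base change
-/

set_option autoImplicit false
set_option linter.style.haveILetI false
set_option linter.unusedSectionVars false
set_option backward.isDefEq.respectTransparency false
set_option backward.isDefEq.respectTransparency.types false
set_option maxHeartbeats 1000000
set_option synthInstance.maxHeartbeats 200000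

noncomputable section

universe u

open CategoryTheory CategoryTheory.Limits AlgebraicGeometry
open Groth.Agent
open CubeConsLib (cl cl_eq_iff pull pull_cl)

attribute [local instance] HasDerivedCategory.standard

namespace QGorBCLib

variable {A : Type u} [CommRing A] [IsNoetherianRing A] {Y : Scheme.{u}} [Y.Over (Spec (CommRingCat.of A))]
  [IsProper (Y ↘ Spec (CommRingCat.of A))] [Flat (Y ↘ Spec (CommRingCat.of A))] {d : ℕ}
  (hd : Cyc.HasRelDim (Y ↘ Spec (CommRingCat.of A)) d) {ω : Y.Modules}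
  (hω : RelCanon.IsDualizingSheaf A Y d ω)
  (hS : RelCanon.IsSkMor (Y ↘ Spec (CommRingCat.of A)) 2)
  (hG : ∀ y : Y, y ∉ RelCanon.gorLocus (Y ↘ Spec (CommRingCat.of A)) → (2 : WithBot ℕ∞) ≤
    ringKrullDim (((Y ↘ Spec (CommRingCat.of A)).fiber ((Y ↘ Spec (CommRingCat.of A)) y)).presheaf.stalk
      ((Y ↘ Spec (CommRingCat.of A)).asFiber y)))
  {B : Type u} [CommRing B] [IsNoetherianRing B] {Y' : Scheme.{u}} [Y'.Over (Spec (CommRingCat.of B))]
  {g : Spec (CommRingCat.of B) ⟶ Spec (CommRingCat.of A)} {p : Y' ⟶ Y}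
  (sq : IsPullback p (Y' ↘ Spec (CommRingCat.of B)) (Y ↘ Spec (CommRingCat.of A)) g)
  {ω' : Y'.Modules} (hω' : RelCanon.IsDualizingSheaf B Y' d ω')

include hd hω hS hG sq hω' in
/-- Along a tower of base changes the reflexive powers correspond. -/
theorem nonempty_ddual_step {C : Type u} [CommRing C] [IsNoetherianRing C] {Y'' : Scheme.{u}}
    [Y''.Over (Spec (CommRingCat.of C))] {h : Spec (CommRingCat.of C) ⟶ Spec (CommRingCat.of B)} {q : Y'' ⟶ Y'}
    (sq' : IsPullback q (Y'' ↘ Spec (CommRingCat.of C)) (Y' ↘ Spec (CommRingCat.of B)) h)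
    {ω'' : Y''.Modules} (hω'' : RelCanon.IsDualizingSheaf C Y'' d ω'') (m : ℤ) :
    Nonempty (RefHull.ddual ((Scheme.Modules.pullback q).obj (RelCanon.refPowZ ω' m)) ≅
      RelCanon.refPowZ ω'' m) := by
  haveI : IsNoetherianRing (CommRingCat.of A) := ‹IsNoetherianRing A›
  haveI : IsNoetherianRing (CommRingCat.of B) := ‹IsNoetherianRing B›
  haveI : IsNoetherianRing (CommRingCat.of C) := ‹IsNoetherianRing C›
  haveI : IsProper (Y' ↘ Spec (CommRingCat.of B)) :=
    MorphismProperty.of_isPullback (P := @IsProper) sq inferInstance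
  haveI : IsProper (Y'' ↘ Spec (CommRingCat.of C)) :=
    MorphismProperty.of_isPullback (P := @IsProper) sq' inferInstance
  haveI : IsLocallyNoetherian Y := LocallyOfFiniteType.isLocallyNoetherian (Y ↘ Spec (CommRingCat.of A))
  haveI : IsLocallyNoetherian Y' := LocallyOfFiniteType.isLocallyNoetherian (Y' ↘ Spec (CommRingCat.of B))
  haveI : IsLocallyNoetherian Y'' := LocallyOfFiniteType.isLocallyNoetherian (Y'' ↘ Spec (CommRingCat.of C))
  have sq'' := sq'.paste_horiz sq
  let U := gorOpen A Y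
  let U' := p ⁻¹ᵁ U
  let U'' := q ⁻¹ᵁ U'
  obtain ⟨e₁⟩ := nonempty_refPowZ_restrict_iso hd hω hS hG sq hω' m
  obtain ⟨e₂⟩ := nonempty_refPowZ_restrict_iso hd hω hS hG sq'' hω'' m
  have hc := isCoh_refPowZ (QGorSecLib.isCoh_dualizing hd hω) m
  have hc' := isCoh_refPowZ (QGorSecLib.isCoh_dualizing (FibDimLib.hasRelDim_baseChange sq hd) hω') m
  have hI' : PicF.IsInvertible ((RelCanon.refPowZ ω' m).restrict U'.ι) :=
    HilbPolyLib.isInvertible_of_iso (restrictPullIso p U _ ≪≫ e₁) (AmpleDevLib.isInvertible_pb (p ∣_ U)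
      (isInvertible_refPowZ_restrict (QGorSecLib.isCoh_dualizing hd hω) (isInvertible_gorOpen hd hω) m))
  obtain ⟨e₃⟩ := nonempty_ddual_restrict (ConsLib.isCoh_pullback q hc') (U := U'')
    (HilbPolyLib.isInvertible_of_iso (restrictPullIso q U' _) (AmpleDevLib.isInvertible_pb (q ∣_ U') hI'))
  let L := RelCanon.refPowZ ω m
  let M := RelCanon.refPowZ ω' m
  let N := RelCanon.refPowZ ω'' m
  let a : ((Scheme.Modules.pullback q).obj M).restrict U''.ι ≅
      ((Scheme.Modules.pullback q).obj ((Scheme.Modules.pullback p).obj L)).restrict U''.ι :=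
    (restrictPullIso q U' M).symm ≪≫ (Scheme.Modules.pullback (q ∣_ U')).mapIso e₁.symm ≪≫
      restrictPullIso q U' _
  let b : ((Scheme.Modules.pullback q).obj ((Scheme.Modules.pullback p).obj L)).restrict U''.ι ≅
      ((Scheme.Modules.pullback (q ≫ p)).obj L).restrict U''.ι :=
    (Scheme.Modules.restrictFunctor U''.ι).mapIso ((Scheme.Modules.pullbackComp q p).app L)
  let c : ((Scheme.Modules.pullback (q ≫ p)).obj L).restrict U''.ι ≅ N.restrict U''.ι := e₂
  have hx := extends_structureModule_baseChange hS hG sq''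
  exact ⟨isoOfExtends U'' (QGorSecLib.extends_homSh _ hx)
    (extends_refPowZ_baseChange hS hG sq'' ω'' m) (e₃ ≪≫ a ≪≫ b ≪≫ c)⟩

/-- A double dual is invertible where the module is. -/
theorem invertibleAt_ddual {X : Scheme.{u}} [IsLocallyNoetherian X] {T : X.Modules} (hc : Coh.IsCoh T) {x : X}
    (h : RelCanon.InvertibleAt T x) : RelCanon.InvertibleAt (RefHull.ddual T) x := by
  obtain ⟨U, hx, ⟨e⟩⟩ := h
  obtain ⟨e'⟩ := nonempty_ddual_restrict hc (U := U)
    (HilbPolyLib.isInvertible_of_iso e.symm CurvLib.isInvertible_structureModule)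
  exact ⟨U, hx, ⟨e' ≪≫ e⟩⟩

theorem invertibleAt_of_iso {X : Scheme.{u}} {M N : X.Modules} (e : M ≅ N) {x : X}
    (h : RelCanon.InvertibleAt M x) : RelCanon.InvertibleAt N x := by
  obtain ⟨U, hx, ⟨c⟩⟩ := h
  exact ⟨U, hx, ⟨(Scheme.Modules.restrictFunctor U.ι).mapIso e.symm ≪≫ c⟩⟩

include hd hω hS hG sq hω' in
/-- A `ℚ`-Gorenstein base change tower. -/
theorem isQGorWith_step {C : Type u} [CommRing C] [IsNoetherianRing C] {Y'' : Scheme.{u}}
    [Y''.Over (Spec (CommRingCat.of C))] {h : Spec (CommRingCat.of C) ⟶ Spec (CommRingCat.of B)} {q : Y'' ⟶ Y'}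
    (sq' : IsPullback q (Y'' ↘ Spec (CommRingCat.of C)) (Y' ↘ Spec (CommRingCat.of B)) h)
    {ω'' : Y''.Modules} (hω'' : RelCanon.IsDualizingSheaf C Y'' d ω'') (hQ : RelCanon.IsQGorWith ω') :
    RelCanon.IsQGorWith ω'' := fun P => by
  haveI : IsNoetherianRing (CommRingCat.of B) := ‹IsNoetherianRing B›
  haveI : IsNoetherianRing (CommRingCat.of C) := ‹IsNoetherianRing C›
  haveI : IsProper (Y' ↘ Spec (CommRingCat.of B)) :=
    MorphismProperty.of_isPullback (P := @IsProper) sq inferInstance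
  haveI : IsProper (Y'' ↘ Spec (CommRingCat.of C)) :=
    MorphismProperty.of_isPullback (P := @IsProper) sq' inferInstance
  haveI : IsLocallyNoetherian Y' := LocallyOfFiniteType.isLocallyNoetherian (Y' ↘ Spec (CommRingCat.of B))
  haveI : IsLocallyNoetherian Y'' := LocallyOfFiniteType.isLocallyNoetherian (Y'' ↘ Spec (CommRingCat.of C))
  obtain ⟨r, hr, hinv⟩ := hQ (q P)
  obtain ⟨e⟩ := nonempty_ddual_step hd hω hS hG sq hω' sq' hω'' r
  exact ⟨r, hr, invertibleAt_of_iso e (invertibleAt_ddual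
    (ConsLib.isCoh_pullback q (isCoh_refPowZ (QGorSecLib.isCoh_dualizing (FibDimLib.hasRelDim_baseChange sq hd) hω') r))
    (invertibleAt_pullback q hinv))⟩

include hd hω hS hG sq hω' in
/-- Relative `S₂` of a reflexive power passes to the base change. -/
theorem relSk_refPowZ_baseChange (m : ℤ)
    (h2 : RelCanon.RelSk (Y ↘ Spec (CommRingCat.of A)) 2 (RelCanon.refPowZ ω m)) :
    RelCanon.RelSk (Y' ↘ Spec (CommRingCat.of B)) 2 (RelCanon.refPowZ ω' m) := by
  let f := Y ↘ Spec (CommRingCat.of A)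
  let f' := Y' ↘ Spec (CommRingCat.of B)
  haveI : IsNoetherianRing (CommRingCat.of A) := ‹IsNoetherianRing A›
  haveI : IsNoetherianRing (CommRingCat.of B) := ‹IsNoetherianRing B›
  haveI : IsProper f' := MorphismProperty.of_isPullback (P := @IsProper) sq inferInstance
  haveI : IsLocallyNoetherian Y := LocallyOfFiniteType.isLocallyNoetherian f
  haveI : IsLocallyNoetherian Y' := LocallyOfFiniteType.isLocallyNoetherian f'
  obtain ⟨e⟩ := nonempty_pullback_iso_of_relSk hd hω hS hG sq hω' m h2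
  have hc := isCoh_refPowZ (QGorSecLib.isCoh_dualizing hd hω) m
  have hc' := isCoh_refPowZ (QGorSecLib.isCoh_dualizing (FibDimLib.hasRelDim_baseChange sq hd) hω') m
  haveI := hc.1
  haveI := hc'.1
  intro x
  refine ⟨(RichLib.ModFlat.isFlatOverAt_iso f' e x).1 (FlatDimLib.isFlatOverAt_baseChange sq _ x (h2 _).1), ?_⟩
  haveI : IsLocallyNoetherian (f'.fiber (f' x)) :=
    haveI := UOpenLib.lft_fiberToSpec f' (f' x)
    LocallyOfFiniteType.isLocallyNoetherian (f'.fiberToSpecResidueField (f' x))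
  refine (DepthLib.hasSk_pullback_stalk_iff (f'.fiberι (f' x)) _ hc'.2 (f'.asFiber x) 2).2 ?_
  refine (DepthLib.forall_specializes_fiber_iff f' (fun s w => min ((2 : ℕ) : WithBot ℕ∞)
    (Module.supportDim ((f'.fiber s).presheaf.stalk w)
      (((Scheme.Modules.pullback (f'.fiberι s)).obj (RelCanon.refPowZ ω' m)).presheaf.stalk w)) ≤
    ((LocCoh.depth ((f'.fiber s).presheaf.stalk w)
      (((Scheme.Modules.pullback (f'.fiberι s)).obj (RelCanon.refPowZ ω' m)).presheaf.stalk w) : ℕ∞) :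
        WithBot ℕ∞)) x).2 fun z _ _ => ?_
  by_cases hz : p z ∈ gorOpen A Y
  · have hinv : RelCanon.InvertibleAt (RelCanon.refPowZ ω' m) z := invertibleAt_of_iso e
      (invertibleAt_pullback p (invertibleAt_of_isInvertible_restrict
        (isInvertible_refPowZ_restrict (QGorSecLib.isCoh_dualizing hd hω) (isInvertible_gorOpen hd hω) m) _ hz))
    obtain ⟨e₀⟩ := nonempty_stalk_equiv (invertibleAt_pullback (f'.fiberι (f' z)) (x' := f'.asFiber z)
      (by rw [f'.fiberι_asFiber]; exact hinv))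
    have hcm := ((CMFlatLib.isCMAt_baseChange f g f' p sq z (Or.inr inferInstance)).1
      ⟨hz.1, CMFlatLib.cm_of_gorenstein hz.2⟩).2
    rw [Module.supportDim_eq_of_equiv e₀, CommAlgDim.depth_congr e₀, hcm.supportDim_eq_depth]
    exact min_le_right _ _
  · refine (min_le_left _ _).trans (WithBot.coe_le_coe.2 ?_)
    have h : (2 : ℕ∞) ≤ CInt.fiberDepth f' ((Scheme.Modules.pullback p).obj (RelCanon.refPowZ ω m)) z :=
      (two_le_fiberDepth f hc (support_refPowZ hd hω hG m) (p z) (h2 _).2 (hG _ hz)).trans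
        (fiberDepth_le_baseChange sq hc z)
    exact h.trans (le_of_eq (depth_congr_iso ((Scheme.Modules.pullback (f'.fiberι (f' z))).mapIso e) _))

end QGorBCLib
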